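import Cfsg.Agent.Lib.Triality.Rel
import Cfsg.Agent.Lib.AutPO.PlusOrder
import Cfsg.Agent.Lib.AutPO.Even

/-!
The triality automorphism of the projective orthogonal group of plus type in dimension eight.
-/

set_option autoImplicit false

namespace Cfsg.Agent.Triality

open scoped Matrix MatrixGroups commutatorElement
open QForm (plusForm)
open ClassicalSimple (GO simAut omegaSub isometry_le_GO)
open AutPO (reflG gmap Fixes fieldA mapGO fixes_plus)

variable {F : Type*} [Field F] [Fintype F]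

local notation "I8" => (Fin 4 ⊕ Fin 4)
local notation "V8" => (Fin 4 ⊕ Fin 4 → F)
local notation "N8" => plusForm F 4

omit [Fintype F] in
theorem nondeg8 : (QuadraticMap.polarBilin (N8 : QuadraticForm F V8)).Nondegenerate :=
  QForm.plusForm_nondegenerate F 4

theorem five8 : 5 ≤ Fintype.card I8 := by simp

omit [Fintype F] in
theorem N8_oone_ne : N8 (oone : V8) ≠ 0 := by rw [N8_oone]; exact one_ne_zero

omit [Fintype F] in
/-- The reflection in the identity is minus the conjugation. -/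
theorem ap_reflG_oone (x : V8) : ap (reflG (oone : V8) N8_oone_ne) x = -oconj x := by
  show reflectionMatrix ⇑(N8) oone *ᵥ x = _
  rw [QForm.reflectionMatrix_mulVec, N8_oone, inv_one, one_mul, polar_N8]
  refine ext8 fun i => ?_
  fin_cases i <;> simp [oone, oconj]

omit [Fintype F] in
/-- The members of related triples. -/
def TG : Subgroup (GO (N8 : QuadraticForm F V8)) where
  carrier := {g | ∃ g1 g2, Rel g g1 g2}
  one_mem' := ⟨1, 1, rel_one⟩
  mul_mem' := fun ⟨_, _, r⟩ ⟨_, _, s⟩ => ⟨_, _, r.mul s⟩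
  inv_mem' := fun ⟨_, _, r⟩ => ⟨_, _, r.inv⟩

omit [Fintype F] in
theorem scalar_mem_TG (c : Fˣ) : ClassicalSimple.scalarGO N8 c ∈ TG (F := F) := ⟨_, _, rel_scalar c⟩

omit [Fintype F] in
theorem reflG_mul_oone_mem {v : V8} (hv : N8 v ≠ 0) :
    reflG v hv * reflG (oone : V8) N8_oone_ne ∈ TG := by
  obtain ⟨P, L, R, hP, r⟩ := rel_bmul hv
  have e : reflG v hv * reflG (oone : V8) N8_oone_ne =
      ClassicalSimple.scalarGO N8 (Units.mk0 (N8 v) hv)⁻¹ * P := ap_ext fun x => by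
    rw [ap_mul, ap_mul, ap_scalar, hP, ap_reflG_oone, Units.val_inv_eq_inv_val, Units.val_mk0]
    show reflectionMatrix ⇑(N8) v *ᵥ (-oconj x) = _
    rw [QForm.reflectionMatrix_mulVec]
    have h := omul_oconj_omul v (oconj x)
    rw [oconj_oconj] at h
    rw [h, smul_sub, smul_smul, smul_smul, inv_mul_cancel₀ hv, one_smul, QuadraticMap.polar_neg_right,
      mul_neg, neg_smul]
    module
  rw [e]
  exact mul_mem (scalar_mem_TG _) ⟨L, R, r⟩

omit [Fintype F] in
theorem reflG_mul_self (v : V8) (hv : N8 v ≠ 0) : reflG v hv * reflG v hv = 1 :=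
  Subtype.ext (Units.ext (QForm.reflectionMatrix_mul_self _ hv))

omit [Fintype F] in
theorem reflG_pair_mem {v w : V8} (hv : N8 v ≠ 0) (hw : N8 w ≠ 0) :
    reflG v hv * reflG w hw ∈ TG := by
  have hinv : ∀ (u : V8) (hu : N8 u ≠ 0), (reflG u hu : GO N8)⁻¹ = reflG u hu := fun u hu =>
    inv_eq_of_mul_eq_one_right (reflG_mul_self u hu)
  have := mul_mem (reflG_mul_oone_mem hv) (inv_mem (reflG_mul_oone_mem hw))
  rwa [mul_inv_rev, hinv, hinv, mul_assoc, ← mul_assoc (reflG (oone : V8) _), reflG_mul_self, one_mul] at this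

omit [Fintype F] in
theorem even_prod_mem_TG : ∀ (vs : List V8), (∀ v ∈ vs, N8 v ≠ 0) → Even vs.length →
    ∀ g : GO (N8 : QuadraticForm F V8),
      (g.1.val : Matrix I8 I8 F) = (vs.map fun v => reflectionMatrix ⇑(N8) v).prod → g ∈ TG
  | [], _, _, g, hg => by
    obtain rfl : g = 1 := Subtype.ext (Units.ext hg)
    exact one_mem _
  | [_], _, he, _, _ => absurd he (by simp)
  | u :: v :: vs, hvs, he, g, hg => by
    have hu := hvs u List.mem_cons_self
    have hv := hvs v (List.mem_cons_of_mem _ List.mem_cons_self)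
    set g' := (reflG u hu * reflG v hv)⁻¹ * g
    have e : g = reflG u hu * reflG v hv * g' := (mul_inv_cancel_left _ _).symm
    rw [e]
    refine mul_mem (reflG_pair_mem hu hv) (even_prod_mem_TG vs
      (fun w hw => hvs w (List.mem_cons_of_mem _ (List.mem_cons_of_mem _ hw)))
      (by simpa [Nat.even_add_one, parity_simps] using he) g' ?_)
    have h1 := congrArg (fun x : GO (N8 : QuadraticForm F V8) => (x.1.val : Matrix I8 I8 F)) e
    simp only [Subgroup.coe_mul, Units.val_mul, AutPO.reflG_coe] at h1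
    rw [hg, List.map_cons, List.prod_cons, List.map_cons, List.prod_cons, mul_assoc] at h1
    have h2 := congrArg (reflectionMatrix ⇑(N8) v * ·) (congrArg (reflectionMatrix ⇑(N8) u * ·) h1)
    simp only [← mul_assoc, QForm.reflectionMatrix_mul_self _ hu, one_mul,
      QForm.reflectionMatrix_mul_self _ hv] at h2
    exact h2.symm

omit [Field F] in
theorem hcard8 : Fintype.card F ≠ 2 ∨ Fintype.card I8 ≠ 4 := Or.inr (by simp)

/-- An isometry is in `TG` or its product with the base reflection is. -/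
theorem isometry_mem_or (g : isometryGroup F ⇑(N8 : QuadraticForm F V8)) :
    (⟨g.1, isometry_le_GO _ g.2⟩ : GO N8) ∈ TG ∨
      (⟨g.1, isometry_le_GO _ g.2⟩ : GO N8) * reflG (oone : V8) N8_oone_ne ∈ TG := by
  obtain ⟨vs, hvs, hg⟩ := QForm.exists_list nondeg8 hcard8 g
  rcases Nat.even_or_odd vs.length with he | ho
  · exact Or.inl (even_prod_mem_TG vs hvs he _ hg)
  · refine Or.inr (even_prod_mem_TG (vs ++ [oone]) (List.forall_mem_append.2 ⟨hvs, by
      simpa using N8_oone_ne⟩) (by simpa using ho.add_one) _ ?_)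
    rw [List.map_append, List.prod_append, ← hg, List.map_singleton, List.prod_singleton]
    rfl

theorem omegaSub_le_TG : omegaSub (N8 : QuadraticForm F V8) ≤ TG := by
  intro g hg
  obtain ⟨ω, hω, hgω⟩ := hg
  suffices ∀ x ∈ Omega F ⇑(N8 : QuadraticForm F V8), (⟨x.1, isometry_le_GO _ x.2⟩ : GO N8) ∈ TG by
    have := this ω hω
    rwa [show (⟨ω.1, isometry_le_GO _ ω.2⟩ : GO N8) = g from Subtype.ext hgω] at this
  let ι0 : isometryGroup F ⇑(N8 : QuadraticForm F V8) →* GO N8 := Subgroup.inclusion (isometry_le_GO _)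
  suffices Omega F ⇑(N8 : QuadraticForm F V8) ≤ (TG (F := F)).comap ι0 from fun x hx => this hx
  rw [Omega, commutator_def, Subgroup.commutator_le]
  intro x _ y _
  obtain ⟨vs, hvs, hx⟩ := QForm.exists_list nondeg8 hcard8 x
  obtain ⟨ws, hws, hy⟩ := QForm.exists_list nondeg8 hcard8 y
  obtain ⟨vi, hvi, hxi⟩ := QForm.exists_list nondeg8 hcard8 x⁻¹
  obtain ⟨wi, hwi, hyi⟩ := QForm.exists_list nondeg8 hcard8 y⁻¹
  rw [Subgroup.mem_comap]
  have hpar : ∀ (z : isometryGroup F ⇑(N8 : QuadraticForm F V8)),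
      ι0 z ∈ TG ∨ ι0 z * reflG (oone : V8) N8_oone_ne ∈ TG := isometry_mem_or
  set r : GO N8 := reflG (oone : V8) N8_oone_ne
  have hconj : ∀ t ∈ TG (F := F), r * t * r ∈ TG := by
    rintro t ⟨t1, t2, ht⟩
    obtain ⟨C, hC⟩ := exists_conjGO (F := F)
    have hr : r = ClassicalSimple.scalarGO N8 (-1) * C := ap_ext fun x => by
      rw [ap_reflG_oone, ap_mul, ap_scalar, hC, Units.val_neg, Units.val_one, neg_one_smul]
    have hcomm : ∀ z : GO (N8 : QuadraticForm F V8), z * ClassicalSimple.scalarGO N8 (-1) =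
        ClassicalSimple.scalarGO N8 (-1) * z := fun z => ap_ext fun x => by
      rw [ap_mul, ap_mul, ap_scalar, ap_scalar, ap_smul]
    rw [hr, show ClassicalSimple.scalarGO N8 (-1) * C * t * (ClassicalSimple.scalarGO N8 (-1) * C) =
      ClassicalSimple.scalarGO N8 (-1) * ClassicalSimple.scalarGO N8 (-1) * (C * t * C) by
        rw [← mul_assoc (ClassicalSimple.scalarGO N8 (-1) * C * t), hcomm]
        simp only [mul_assoc]]
    exact mul_mem (mul_mem (scalar_mem_TG _) (scalar_mem_TG _)) ⟨_, _, ht.conj hC⟩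
  have hr2 : r * r = 1 := reflG_mul_self _ _
  have hrn : ∀ t : GO (N8 : QuadraticForm F V8), t * r ∈ TG → r * t ∈ TG := fun t ht => by
    have := hconj _ ht
    rwa [show r * (t * r) * r = r * t by rw [mul_assoc, mul_assoc, hr2, mul_one]] at this
  rw [map_commutatorElement, commutatorElement_def]
  rcases hpar x with ha | ha <;> rcases hpar y with hb | hb
  · exact mul_mem (mul_mem (mul_mem ha hb) (inv_mem ha)) (inv_mem hb)
  · rw [show ι0 x * ι0 y * (ι0 x)⁻¹ * (ι0 y)⁻¹ =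
      ι0 x * (ι0 y * r) * (r * (ι0 x)⁻¹ * r) * (r * (ι0 y)⁻¹) by
        simp only [mul_assoc]; simp [← mul_assoc r r, hr2]]
    refine mul_mem (mul_mem (mul_mem ha hb) (hconj _ (inv_mem ha))) ?_
    rw [show r * (ι0 y)⁻¹ = (ι0 y * r)⁻¹ by rw [mul_inv_rev, inv_eq_of_mul_eq_one_right hr2]]
    exact inv_mem hb
  · rw [show ι0 x * ι0 y * (ι0 x)⁻¹ * (ι0 y)⁻¹ =
      (ι0 x * r) * (r * ι0 y * r) * (r * (ι0 x)⁻¹) * (ι0 y)⁻¹ by
        simp only [mul_assoc]; simp [← mul_assoc r r, hr2]]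
    refine mul_mem (mul_mem (mul_mem ha (hconj _ hb)) ?_) (inv_mem hb)
    rw [show r * (ι0 x)⁻¹ = (ι0 x * r)⁻¹ by rw [mul_inv_rev, inv_eq_of_mul_eq_one_right hr2]]
    exact inv_mem ha
  · rw [show ι0 x * ι0 y * (ι0 x)⁻¹ * (ι0 y)⁻¹ =
      (ι0 x * r) * (r * ι0 y) * ((ι0 x)⁻¹ * r) * (r * (ι0 y)⁻¹) by
        simp only [mul_assoc]; simp [← mul_assoc r r, hr2]]
    refine mul_mem (mul_mem (mul_mem ha (hrn _ hb)) ?_) ?_
    · rw [show (ι0 x)⁻¹ * r = (r * ι0 x)⁻¹ by rw [mul_inv_rev, inv_eq_of_mul_eq_one_right hr2]]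
      exact inv_mem (hrn _ ha)
    · rw [show r * (ι0 y)⁻¹ = (ι0 y * r)⁻¹ by rw [mul_inv_rev, inv_eq_of_mul_eq_one_right hr2]]
      exact inv_mem hb

theorem simAut_eq_iff8 {g h : GO (N8 : QuadraticForm F V8)} :
    simAut N8 g = simAut N8 h ↔ ∃ c : Fˣ, g = ClassicalSimple.scalarGO N8 c * h := by
  rw [AutPO.simAut_eq_iff nondeg8 five8]
  constructor
  · rintro ⟨c, hc⟩
    exact ⟨c, Subtype.ext (hc.trans (AutPO.scl_commute c h.1).symm)⟩
  · rintro ⟨c, rfl⟩
    exact ⟨c, (AutPO.scl_commute c h.1)⟩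

theorem simAut_scalar (c : Fˣ) : simAut (N8 : QuadraticForm F V8) (ClassicalSimple.scalarGO N8 c) = 1 := by
  rw [← map_one (simAut (N8 : QuadraticForm F V8)), simAut_eq_iff8]
  exact ⟨c, (mul_one _).symm⟩

theorem Rel.simAut_congr {g g1 g2 h h1 h2 : GO (N8 : QuadraticForm F V8)} (r : Rel g g1 g2)
    (s : Rel h h1 h2) (e : simAut N8 g = simAut N8 h) : simAut N8 g1 = simAut N8 h1 := by
  obtain ⟨c, rfl⟩ := simAut_eq_iff8.1 e
  have t := r.mul ((rel_scalar c).mul s).inv
  rw [mul_inv_cancel] at t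
  obtain ⟨d, hd⟩ := t.scalar_of_one
  rw [mul_inv_eq_iff_eq_mul] at hd
  rw [hd, map_mul, map_mul, simAut_scalar, simAut_scalar, one_mul, one_mul]

/-- An automorphism centralising all inner automorphisms is trivial. -/
theorem eq_of_conj_eq {a b : MulAut (POmega F ⇑(N8 : QuadraticForm F V8))}
    (h : ∀ x, a * MulAut.conj x * a⁻¹ = b * MulAut.conj x * b⁻¹) : a = b := by
  refine MulEquiv.ext fun x => ?_
  have e : ∀ a : MulAut (POmega F ⇑(N8 : QuadraticForm F V8)), a * MulAut.conj x * a⁻¹ = MulAut.conj (a x) :=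
    fun a => MulEquiv.ext fun y => by
      simp [MulAut.mul_apply, MulAut.conj_apply, map_mul, map_inv]
  have hx := h x
  rw [e, e] at hx
  refine eq_of_inv_mul_eq_one (Subgroup.mem_bot.1 (AutPOmega.center_POmega (F := F)
    (ClassicalSimple.bil_nondegenerate (N8 : QuadraticForm F V8) nondeg8) five8 ▸
    Subgroup.mem_center_iff.2 fun z => ?_))
  have := MulEquiv.congr_fun hx z
  simp only [MulAut.conj_apply] at this
  calc z * ((a x)⁻¹ * b x) = (a x)⁻¹ * (a x * z * (a x)⁻¹) * b x := by group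
    _ = (a x)⁻¹ * (b x * z * (b x)⁻¹) * b x := by rw [this]
    _ = (a x)⁻¹ * b x * z := by group

theorem inn_le_TG (x : POmega F ⇑(N8 : QuadraticForm F V8)) :
    ∃ g g1 g2 : GO (N8 : QuadraticForm F V8), g ∈ omegaSub N8 ∧ Rel g g1 g2 ∧
      MulAut.conj x = simAut N8 g := by
  have hx : MulAut.conj x ∈ Inn (POmega F ⇑(N8 : QuadraticForm F V8)) := ⟨x, rfl⟩
  rw [ClassicalSimple.inn_eq] at hx
  obtain ⟨g, hg, he⟩ := hx
  obtain ⟨g1, g2, r⟩ := omegaSub_le_TG hg
  exact ⟨g, g1, g2, hg, r, he.symm⟩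

set_option maxHeartbeats 1600000 in
theorem first_mem_inn {g g1 g2 : GO (N8 : QuadraticForm F V8)} (hg : g ∈ omegaSub N8) (r : Rel g g1 g2) :
    simAut N8 g1 ∈ Inn (POmega F ⇑(N8 : QuadraticForm F V8)) := by
  classical
  let pick : TG (F := F) → GO (N8 : QuadraticForm F V8) := fun t => t.2.choose
  have hpick : ∀ t : TG (F := F), ∃ g2, Rel t.1 (pick t) g2 := fun t => t.2.choose_spec
  let Ψ : TG (F := F) →* MulAut (POmega F ⇑(N8 : QuadraticForm F V8)) :=
    MonoidHom.mk' (fun t => simAut N8 (pick t)) fun s t => by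
      obtain ⟨s2, hs⟩ := hpick s
      obtain ⟨t2, ht⟩ := hpick t
      obtain ⟨u2, hu⟩ := hpick (s * t)
      rw [← map_mul]
      exact hu.simAut_congr (hs.mul ht) rfl
  let K : Subgroup (TG (F := F)) := (omegaSub N8).subgroupOf TG
  have hperf : ⁅K, K⁆ = K := by
    have hΩ := ClassicalSimple.Omega_perfect (N8 : QuadraticForm F V8)
      (ClassicalSimple.bil_nondegenerate _ nondeg8) five8
    apply Subgroup.map_injective (TG (F := F)).subtype_injective
    rw [Subgroup.map_commutator, Subgroup.map_subgroupOf_eq_of_le omegaSub_le_TG]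
    let j : Omega F ⇑(N8 : QuadraticForm F V8) →* GO N8 :=
      (Subgroup.inclusion (isometry_le_GO _)).comp (Omega F ⇑(N8 : QuadraticForm F V8)).subtype
    have hj : (⊤ : Subgroup (Omega F ⇑(N8 : QuadraticForm F V8))).map j = omegaSub N8 := by
      ext z
      constructor
      · rintro ⟨w, -, rfl⟩
        exact ⟨w.1, w.2, rfl⟩
      · rintro ⟨w, hw, hwz⟩
        exact ⟨⟨w, hw⟩, trivial, Subtype.ext hwz⟩
    rw [← hj, ← Subgroup.map_commutator, ← commutator_def, hΩ]
  set R := K.map Ψ with hR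
  have hRR : ⁅R, R⁆ = R := by rw [hR, ← Subgroup.map_commutator, hperf]
  have h1 : R ≤ (⊤ : Subgroup (GO (N8 : QuadraticForm F V8))).map (simAut N8) := by
    rintro _ ⟨t, -, rfl⟩
    exact ⟨pick t, trivial, rfl⟩
  have h2 : R ≤ ((isometryGroup F ⇑(N8 : QuadraticForm F V8)).subgroupOf (GO N8)).map (simAut N8) := by
    rw [← hRR]
    refine (Subgroup.commutator_mono h1 h1).trans ?_
    rw [← Subgroup.map_commutator]
    refine Subgroup.map_mono ((Subgroup.commutator_le).2 fun a _ b _ => ?_)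
    rw [Subgroup.mem_subgroupOf, ClassicalSimple.mem_isometry_iff]
    intro v
    obtain ⟨ca, hca0, hca⟩ := exists_mult a
    obtain ⟨cb, hcb0, hcb⟩ := exists_mult b
    have hia : ∀ x, N8 (ap a⁻¹ x) = ca⁻¹ * N8 x := fun x => by
      rw [eq_inv_mul_iff_mul_eq₀ hca0, ← hca, ap_inv_ap]
    have hib : ∀ x, N8 (ap b⁻¹ x) = cb⁻¹ * N8 x := fun x => by
      rw [eq_inv_mul_iff_mul_eq₀ hcb0, ← hcb, ap_inv_ap]
    show N8 (ap ⁅a, b⁆ v) = N8 v
    rw [commutatorElement_def, ap_mul, ap_mul, ap_mul, hca, hcb, hia, hib]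
    field_simp
  have h3 : R ≤ Inn (POmega F ⇑(N8 : QuadraticForm F V8)) := by
    rw [← hRR, ClassicalSimple.inn_eq]
    refine (Subgroup.commutator_mono h2 h2).trans ?_
    rw [← Subgroup.map_commutator]
    refine Subgroup.map_mono ((Subgroup.commutator_le).2 fun a ha b hb => ?_)
    exact ⟨⁅(⟨a.1, ha⟩ : isometryGroup F ⇑(N8 : QuadraticForm F V8)), ⟨b.1, hb⟩⁆,
      Subgroup.commutator_mem_commutator (Subgroup.mem_top _) (Subgroup.mem_top _), rfl⟩
  obtain ⟨u2, hu⟩ := hpick ⟨g, _, _, r⟩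
  rw [r.simAut_congr hu rfl]
  exact h3 (Subgroup.mem_map_of_mem Ψ (Subgroup.mem_subgroupOf.2 hg))

set_option maxHeartbeats 1600000 in
/-- Triality. -/
theorem exists_triality : ∃ φ : MulAut (POmega F ⇑(N8 : QuadraticForm F V8)), φ * φ = 1 ∧
    ∀ g g1 g2 : GO (N8 : QuadraticForm F V8), Rel g g1 g2 → φ * simAut N8 g = simAut N8 g1 * φ := by
  classical
  obtain ⟨C, hC⟩ := exists_conjGO (F := F)
  have hex : ∀ x : POmega F ⇑(N8 : QuadraticForm F V8), ∃ y, ∀ g g1 g2 : GO (N8 : QuadraticForm F V8),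
      Rel g g1 g2 → simAut N8 g = MulAut.conj x → simAut N8 g1 = MulAut.conj y := by
    intro x
    obtain ⟨g, g1, g2, hg, r, e⟩ := inn_le_TG x
    obtain ⟨y, hy⟩ := first_mem_inn hg r
    exact ⟨y, fun h h1 h2 s e' => (s.simAut_congr r (e'.trans e)).trans hy.symm⟩
  choose f hf using hex
  have conj_inj : ∀ {x y : POmega F ⇑(N8 : QuadraticForm F V8)}, MulAut.conj x = MulAut.conj y → x = y := by
    intro x y e
    refine eq_of_inv_mul_eq_one (Subgroup.mem_bot.1 (AutPOmega.center_POmega (F := F)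
      (ClassicalSimple.bil_nondegenerate (N8 : QuadraticForm F V8) nondeg8) five8 ▸
      Subgroup.mem_center_iff.2 fun z => ?_))
    have := MulEquiv.congr_fun e z
    simp only [MulAut.conj_apply] at this
    calc z * (x⁻¹ * y) = x⁻¹ * (x * z * x⁻¹) * y := by group
      _ = x⁻¹ * (y * z * y⁻¹) * y := by rw [this]
      _ = x⁻¹ * y * z := by group
  have hmul : ∀ x y, f (x * y) = f x * f y := fun x y => by
    obtain ⟨g, g1, g2, hg, r, e⟩ := inn_le_TG x
    obtain ⟨h, h1, h2, hh, s, e'⟩ := inn_le_TG y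
    refine conj_inj ?_
    rw [← hf (x * y) _ _ _ (r.mul s) (by rw [map_mul, map_mul, e, e']), map_mul, map_mul,
      hf x _ _ _ r e.symm, hf y _ _ _ s e'.symm]
  have hff : ∀ x, f (f x) = x := fun x => by
    obtain ⟨g, g1, g2, hg, r, e⟩ := inn_le_TG x
    obtain ⟨c, s⟩ := r.swap hC
    refine conj_inj ?_
    rw [← hf (f x) _ _ _ s (by rw [map_mul, simAut_scalar, one_mul]; exact hf x _ _ _ r e.symm), e]
  let φ : MulAut (POmega F ⇑(N8 : QuadraticForm F V8)) :=
    { toFun := f, invFun := f, left_inv := hff, right_inv := hff, map_mul' := hmul }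
  refine ⟨φ, MulEquiv.ext hff, fun g g1 g2 r => ?_⟩
  refine MulEquiv.ext fun x => ?_
  show f (simAut N8 g x) = simAut N8 g1 (f x)
  obtain ⟨h, h1, h2, hh, s, e⟩ := inn_le_TG x
  refine conj_inj ?_
  have key : ∀ (a : MulAut (POmega F ⇑(N8 : QuadraticForm F V8))) (z), MulAut.conj (a z) = a * MulAut.conj z * a⁻¹ :=
    fun a z => MulEquiv.ext fun y => by simp [MulAut.mul_apply, MulAut.conj_apply, map_mul, map_inv]
  rw [← hf (simAut N8 g x) _ _ _ ((r.mul s).mul r.inv) (by
      rw [key, e, map_mul, map_mul, map_inv]),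
    key, ← hf x _ _ _ s e.symm, map_mul, map_mul, map_inv]

set_option maxHeartbeats 1600000 in
/-- The relations between triality, the conjugation and the field automorphisms. -/
theorem triality_braid {φ : MulAut (POmega F ⇑(N8 : QuadraticForm F V8))} (hφ : φ * φ = 1)
    (hr : ∀ g g1 g2 : GO (N8 : QuadraticForm F V8), Rel g g1 g2 → φ * simAut N8 g = simAut N8 g1 * φ)
    {C : GO (N8 : QuadraticForm F V8)} (hC : ∀ x, ap C x = oconj x) :
    φ * simAut N8 C * φ = simAut N8 C * φ * simAut N8 C := by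
  set c := simAut N8 C
  have hc2 : c * c = 1 := by rw [← map_mul, conj_mul_self hC, map_one]
  have hφi : φ⁻¹ = φ := inv_eq_of_mul_eq_one_right hφ
  have hci : c⁻¹ = c := inv_eq_of_mul_eq_one_right hc2
  refine eq_of_conj_eq fun x => ?_
  obtain ⟨g, g1, g2, -, r, e⟩ := inn_le_TG x
  rw [e]
  simp only [mul_inv_rev, hφi, hci]
  have hstep : ∀ (a b : GO (N8 : QuadraticForm F V8)) (d : GO (N8 : QuadraticForm F V8)), Rel a b d →
      φ * simAut N8 a * φ = simAut N8 b := fun a b d h => by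
    rw [hr a b d h, mul_assoc, hφ, mul_one]
  obtain ⟨μ, s⟩ := r.swap hC
  have s' := s.conj hC
  have r' := r.conj hC
  obtain ⟨ν, t⟩ := r'.swap hC
  have t' := t.conj hC
  have cc : ∀ z : GO (N8 : QuadraticForm F V8), c * simAut N8 z * c = simAut N8 (C * z * C) := fun z => by
    rw [map_mul, map_mul]
  have hCC : ∀ z : GO (N8 : QuadraticForm F V8), C * (C * z * C) * C = z := fun z => by
    rw [← mul_assoc, ← mul_assoc, conj_mul_self hC, one_mul, mul_assoc, conj_mul_self hC, mul_one]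
  calc φ * c * φ * simAut N8 g * (φ * (c * φ)) = φ * (c * (φ * simAut N8 g * φ) * c) * φ := by
        simp only [mul_assoc]
    _ = φ * (c * simAut N8 (ClassicalSimple.scalarGO N8 μ * g1) * c) * φ := by
        rw [hstep _ _ _ r, map_mul (simAut _) (ClassicalSimple.scalarGO N8 μ), simAut_scalar, one_mul]
    _ = simAut N8 (C * (C * g2 * C) * C) := by rw [cc, hstep _ _ _ s']
    _ = simAut N8 g2 := by rw [hCC]
    _ = c * (φ * (c * simAut N8 g * c) * φ) * c := by rw [cc, hstep _ _ _ r', cc, hCC]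
    _ = c * φ * c * simAut N8 g * (c * (φ * c)) := by simp only [mul_assoc]

set_option maxHeartbeats 1600000 in
theorem triality_field {φ : MulAut (POmega F ⇑(N8 : QuadraticForm F V8))} (hφ : φ * φ = 1)
    (hr : ∀ g g1 g2 : GO (N8 : QuadraticForm F V8), Rel g g1 g2 → φ * simAut N8 g = simAut N8 g1 * φ)
    (σ : F ≃+* F) : Commute φ (fieldA (fixes_plus (m := 4) σ)) := by
  set hσ := fixes_plus (F := F) (m := 4) σ
  have hφi : φ⁻¹ = φ := inv_eq_of_mul_eq_one_right hφ
  have hap : ∀ (g : GO (N8 : QuadraticForm F V8)) (x : V8), ap (mapGO hσ g) (σ ∘ x) = σ ∘ ap g x :=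
    fun g x => AutPO.gmap_mulVec σ g.1 x
  have hom : ∀ u v : V8, omul (σ ∘ u) (σ ∘ v) = σ ∘ omul u v := fun u v => ext8 fun i => by
    fin_cases i <;> simp [omul, map_add, map_sub, map_mul]
  have hrel : ∀ {g g1 g2 : GO (N8 : QuadraticForm F V8)}, Rel g g1 g2 →
      Rel (mapGO hσ g) (mapGO hσ g1) (mapGO hσ g2) := by
    intro g g1 g2 r u v
    have e : ∀ u : V8, σ ∘ (σ.symm ∘ u) = u := fun u => funext fun i => σ.apply_symm_apply _
    rw [← e u, ← e v, hap, hap, hom, hom, hap, r]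
  refine eq_of_conj_eq fun x => ?_
  obtain ⟨g, g1, g2, -, r, e⟩ := inn_le_TG x
  rw [e]
  have h1 : φ * fieldA hσ * simAut N8 g = simAut N8 (mapGO hσ g1) * (φ * fieldA hσ) := by
    rw [mul_assoc, AutPO.fieldA_mul_simAut, ← mul_assoc, hr _ _ _ (hrel r), mul_assoc]
  have h2 : fieldA hσ * φ * simAut N8 g = simAut N8 (mapGO hσ g1) * (fieldA hσ * φ) := by
    rw [mul_assoc, hr _ _ _ r, ← mul_assoc, AutPO.fieldA_mul_simAut, mul_assoc]
  rw [h1, h2, mul_inv_cancel_right, mul_inv_cancel_right]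

end Cfsg.Agent.Triality
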