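import Cfsg.Agent.Lib.QForm.Std

/-!
The split octonions on the model of the hyperbolic quadratic space of dimension eight.
-/

set_option autoImplicit false

namespace Cfsg.Agent.Triality

open QForm (plusForm)

variable {F : Type*} [Field F]

local notation "V8" => (Fin 4 ⊕ Fin 4 → F)
local notation "N8" => plusForm F 4

/-- The product of split octonions. -/
def omul (x y : V8) : V8 :=
  Sum.elim
    ![x (.inl 0) * y (.inl 0) -
        (x (.inl 1) * y (.inr 1) + x (.inl 2) * y (.inr 2) + x (.inl 3) * y (.inr 3)),
      x (.inl 0) * y (.inl 1) + y (.inr 0) * x (.inl 1) - (x (.inr 2) * y (.inr 3) - x (.inr 3) * y (.inr 2)),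
      x (.inl 0) * y (.inl 2) + y (.inr 0) * x (.inl 2) - (x (.inr 3) * y (.inr 1) - x (.inr 1) * y (.inr 3)),
      x (.inl 0) * y (.inl 3) + y (.inr 0) * x (.inl 3) - (x (.inr 1) * y (.inr 2) - x (.inr 2) * y (.inr 1))]
    ![x (.inr 0) * y (.inr 0) -
        (x (.inr 1) * y (.inl 1) + x (.inr 2) * y (.inl 2) + x (.inr 3) * y (.inl 3)),
      y (.inl 0) * x (.inr 1) + x (.inr 0) * y (.inr 1) - (x (.inl 2) * y (.inl 3) - x (.inl 3) * y (.inl 2)),
      y (.inl 0) * x (.inr 2) + x (.inr 0) * y (.inr 2) - (x (.inl 3) * y (.inl 1) - x (.inl 1) * y (.inl 3)),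
      y (.inl 0) * x (.inr 3) + x (.inr 0) * y (.inr 3) - (x (.inl 1) * y (.inl 2) - x (.inl 2) * y (.inl 1))]

/-- The conjugation of split octonions. -/
def oconj (x : V8) : V8 :=
  Sum.elim ![x (.inr 0), -x (.inl 1), -x (.inl 2), -x (.inl 3)]
    ![x (.inl 0), -x (.inr 1), -x (.inr 2), -x (.inr 3)]

/-- The identity octonion. -/
def oone : V8 := Sum.elim ![1, 0, 0, 0] ![1, 0, 0, 0]

theorem N8_apply (x : V8) :
    N8 x = x (.inl 0) * x (.inr 0) + x (.inl 1) * x (.inr 1) + x (.inl 2) * x (.inr 2) +
      x (.inl 3) * x (.inr 3) := by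
  rw [QForm.plusForm_apply, quadFormPlus, Fin.sum_univ_four]

theorem polar_N8 (x y : V8) :
    QuadraticMap.polar ⇑(N8) x y = x (.inl 0) * y (.inr 0) + x (.inl 1) * y (.inr 1) +
      x (.inl 2) * y (.inr 2) + x (.inl 3) * y (.inr 3) + (y (.inl 0) * x (.inr 0) + y (.inl 1) * x (.inr 1) +
      y (.inl 2) * x (.inr 2) + y (.inl 3) * x (.inr 3)) := by
  rw [QuadraticMap.polar, N8_apply, N8_apply, N8_apply]
  simp only [Pi.add_apply]
  ring

omit [Field F] in
/-- Extensionality by the eight coordinates. -/
theorem ext8 {x y : V8} (h : ∀ i : Fin 4, x (.inl i) = y (.inl i) ∧ x (.inr i) = y (.inr i)) : x = y :=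
  funext fun j => match j with
    | .inl i => (h i).1
    | .inr i => (h i).2

theorem omul_add_left (x y z : V8) : omul (x + y) z = omul x z + omul y z := by
  refine ext8 fun i => ?_
  fin_cases i <;> simp [omul] <;> constructor <;> ring

theorem omul_add_right (x y z : V8) : omul x (y + z) = omul x y + omul x z := by
  refine ext8 fun i => ?_
  fin_cases i <;> simp [omul] <;> constructor <;> ring

theorem omul_smul_left (c : F) (x y : V8) : omul (c • x) y = c • omul x y := by
  refine ext8 fun i => ?_
  fin_cases i <;> simp [omul] <;> constructor <;> ring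

theorem omul_smul_right (c : F) (x y : V8) : omul x (c • y) = c • omul x y := by
  refine ext8 fun i => ?_
  fin_cases i <;> simp [omul] <;> constructor <;> ring

theorem oone_omul (x : V8) : omul oone x = x := by
  refine ext8 fun i => ?_
  fin_cases i <;> simp [omul, oone]

theorem omul_oone (x : V8) : omul x oone = x := by
  refine ext8 fun i => ?_
  fin_cases i <;> simp [omul, oone]

theorem oconj_oconj (x : V8) : oconj (oconj x) = x := by
  refine ext8 fun i => ?_
  fin_cases i <;> simp [oconj]

theorem oconj_oone : oconj (oone : V8) = oone := by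
  refine ext8 fun i => ?_
  fin_cases i <;> simp [oconj, oone]

theorem oconj_omul (x y : V8) : oconj (omul x y) = omul (oconj y) (oconj x) := by
  refine ext8 fun i => ?_
  fin_cases i <;> simp [omul, oconj] <;> constructor <;> ring

theorem N8_oone : N8 (oone : V8) = 1 := by
  rw [N8_apply]
  simp [oone]

theorem N8_oconj (x : V8) : N8 (oconj x) = N8 x := by
  simp only [N8_apply]
  simp [oconj]
  ring

/-- The norm is multiplicative. -/
theorem N8_omul (x y : V8) : N8 (omul x y) = N8 x * N8 y := by
  simp only [N8_apply]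
  simp [omul]
  ring

theorem oconj_omul_cancel (x y : V8) : omul (oconj x) (omul x y) = N8 x • y := by
  refine ext8 fun i => ?_
  fin_cases i <;> simp [omul, oconj, N8_apply] <;> constructor <;> ring

theorem omul_oconj_cancel_left (x y : V8) : omul x (omul (oconj x) y) = N8 x • y := by
  have := oconj_omul_cancel (oconj x) y
  rwa [oconj_oconj, N8_oconj] at this

theorem omul_omul_oconj_cancel (x y : V8) : omul (omul y x) (oconj x) = N8 x • y := by
  refine ext8 fun i => ?_
  fin_cases i <;> simp [omul, oconj, N8_apply] <;> constructor <;> ring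

theorem omul_oconj_cancel_right (x y : V8) : omul (omul y (oconj x)) x = N8 x • y := by
  have := omul_omul_oconj_cancel (oconj x) y
  rwa [oconj_oconj, N8_oconj] at this

/-- The left Moufang identity. -/
theorem moufang_left (a u z : V8) : omul (omul a (omul u a)) z = omul a (omul u (omul a z)) := by
  refine ext8 fun i => ?_
  fin_cases i <;> simp [omul] <;> constructor <;> ring

/-- The middle Moufang identity. -/
theorem moufang_middle (a u v : V8) : omul (omul a u) (omul v a) = omul a (omul (omul u v) a) := by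
  refine ext8 fun i => ?_
  fin_cases i <;> simp [omul] <;> constructor <;> ring

/-- The reflection in `b`, up to the scalar, written in the algebra. -/
theorem omul_oconj_omul (b x : V8) :
    omul b (omul (oconj x) b) = QuadraticMap.polar ⇑(N8) b x • b - N8 b • x := by
  refine ext8 fun i => ?_
  fin_cases i <;> simp [omul, oconj, N8_apply, polar_N8] <;> constructor <;> ring

/-- Only scalars associate with everything. -/
theorem eq_smul_oone_of_assoc {k : V8} (h : ∀ u v : V8, omul (omul u k) v = omul u (omul k v)) :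
    k = k (.inl 0) • oone := by
  have key : ∀ (i j : Fin 4 ⊕ Fin 4) (l : Fin 4 ⊕ Fin 4),
      omul (omul (Pi.single i 1) k) (Pi.single j 1) l = omul (Pi.single i 1) (omul k (Pi.single j 1)) l :=
    fun i j l => congrFun (h _ _) l
  refine ext8 fun i => ?_
  have h12 := key (.inl 1) (.inl 2) (.inl 0)
  have h13 := key (.inl 1) (.inl 3) (.inl 0)
  have h23 := key (.inl 2) (.inl 3) (.inl 0)
  have g12 := key (.inr 1) (.inr 2) (.inr 0)
  have g13 := key (.inr 1) (.inr 3) (.inr 0)
  have g23 := key (.inr 2) (.inr 3) (.inr 0)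
  have d1 := key (.inl 1) (.inl 2) (.inr 3)
  simp [omul] at h12 h13 h23 g12 g13 g23 d1
  fin_cases i <;> simp [oone, h12, h13.symm, h23, g12, g13.symm, g23, d1]

end Cfsg.Agent.Triality
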