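import Cfsg.Agent.Lib.Triality.Octonion
import Cfsg.Agent.Lib.AutPOmega.Out
import Cfsg.Agent.Lib.AutPO.PlusModel

/-!
Related triples of similarities of the split octonions.
-/

set_option autoImplicit false

namespace Cfsg.Agent.Triality

open scoped Matrix MatrixGroups
open QForm (plusForm)
open ClassicalSimple (GO simAut)

variable {F : Type*} [Field F]

local notation "I8" => (Fin 4 ⊕ Fin 4)
local notation "V8" => (Fin 4 ⊕ Fin 4 → F)
local notation "N8" => plusForm F 4

/-- The action of a similarity. -/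
def ap (g : GO N8) (x : V8) : V8 := (g.1 : Matrix I8 I8 F) *ᵥ x

theorem ap_mul (g h : GO N8) (x : V8) : ap (g * h) x = ap g (ap h x) :=
  (Matrix.mulVec_mulVec x _ _).symm

theorem ap_one (x : V8) : ap (1 : GO N8) x = x := Matrix.one_mulVec x

theorem ap_smul (g : GO N8) (c : F) (x : V8) : ap g (c • x) = c • ap g x := Matrix.mulVec_smul _ _ _

theorem ap_inv_ap (g : GO N8) (x : V8) : ap g (ap g⁻¹ x) = x := by rw [← ap_mul, mul_inv_cancel, ap_one]

theorem ap_ap_inv (g : GO N8) (x : V8) : ap g⁻¹ (ap g x) = x := by rw [← ap_mul, inv_mul_cancel, ap_one]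

theorem ap_ext {g h : GO N8} (e : ∀ x, ap g x = ap h x) : g = h :=
  Subtype.ext (Units.ext (Matrix.ext_iff_mulVec.2 e))

theorem exists_mult (g : GO N8) : ∃ c : F, c ≠ 0 ∧ ∀ x, N8 (ap g x) = c * N8 x := by
  obtain ⟨c, hc⟩ := g.2
  exact ⟨c, c.ne_zero, hc⟩

theorem exists_go (f : V8 →ₗ[F] V8) {c : F} (hc : c ≠ 0) (h : ∀ x, N8 (f x) = c * N8 x) :
    ∃ g : GO N8, ∀ x, ap g x = f x := by
  have hinj : Function.Injective (LinearMap.toMatrix' f).mulVec := by
    intro x y e
    rw [LinearMap.toMatrix'_mulVec, LinearMap.toMatrix'_mulVec] at e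
    have hb : ∀ u v, QuadraticMap.polar ⇑(N8) (f u) (f v) = c * QuadraticMap.polar ⇑(N8) u v := fun u v => by
      simp only [QuadraticMap.polar, ← map_add, h]
      ring
    refine sub_eq_zero.1 ((QForm.plusForm_nondegenerate F 4).1 _ fun v => ?_)
    have := hb (x - y) v
    rw [map_sub, e, sub_self, QuadraticMap.polar, zero_add, map_zero, sub_zero, sub_self] at this
    exact (mul_eq_zero.1 this.symm).resolve_left hc
  obtain ⟨g, hg⟩ := Matrix.mulVec_injective_iff_isUnit.1 hinj
  refine ⟨⟨g, Units.mk0 c hc, fun v => ?_⟩, fun x => ?_⟩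
  · rw [hg, LinearMap.toMatrix'_mulVec, h, Units.val_mk0]
  · show (g : Matrix I8 I8 F) *ᵥ x = f x
    rw [hg, LinearMap.toMatrix'_mulVec]

/-- Left multiplication. -/
def lmul (a : V8) : V8 →ₗ[F] V8 where
  toFun := omul a
  map_add' := omul_add_right a
  map_smul' c x := omul_smul_right c a x

/-- Right multiplication. -/
def rmul (a : V8) : V8 →ₗ[F] V8 where
  toFun x := omul x a
  map_add' x y := omul_add_left x y a
  map_smul' c x := omul_smul_left c x a

/-- The conjugation as a linear map. -/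
def cmap : V8 →ₗ[F] V8 where
  toFun := oconj
  map_add' x y := ext8 fun i => by fin_cases i <;> simp [oconj] <;> constructor <;> ring
  map_smul' c x := ext8 fun i => by fin_cases i <;> simp [oconj]

theorem exists_conjGO : ∃ C : GO N8, ∀ x, ap C x = oconj x :=
  exists_go cmap one_ne_zero fun x => (N8_oconj x).trans (one_mul _).symm

/-- A related triple. -/
def Rel (g g1 g2 : GO N8) : Prop := ∀ u v, ap g (omul u v) = omul (ap g1 u) (ap g2 v)

theorem Rel.mul {g g1 g2 h h1 h2 : GO N8} (r : Rel g g1 g2) (s : Rel h h1 h2) :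
    Rel (g * h) (g1 * h1) (g2 * h2) := fun u v => by rw [ap_mul, s, r, ap_mul, ap_mul]

theorem Rel.inv {g g1 g2 : GO N8} (r : Rel g g1 g2) : Rel g⁻¹ g1⁻¹ g2⁻¹ := fun u v => by
  have e := r (ap g1⁻¹ u) (ap g2⁻¹ v)
  rw [ap_inv_ap, ap_inv_ap] at e
  rw [← e, ap_ap_inv]

theorem rel_one : Rel (1 : GO N8) 1 1 := fun u v => by rw [ap_one, ap_one, ap_one]

theorem ap_scalar (c : Fˣ) (x : V8) : ap (ClassicalSimple.scalarGO N8 c) x = (c : F) • x := by
  show (AutPO.scl c : GL I8 F).val *ᵥ x = _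
  rw [AutPO.scl_mulVec]

theorem rel_scalar (c : Fˣ) :
    Rel (ClassicalSimple.scalarGO N8 c) (ClassicalSimple.scalarGO N8 c) 1 := fun u v => by
  rw [ap_scalar, ap_scalar, ap_one, omul_smul_left]

theorem rel_scalar' (c : Fˣ) :
    Rel (1 : GO N8) (ClassicalSimple.scalarGO N8 c) (ClassicalSimple.scalarGO N8 c⁻¹) := fun u v => by
  rw [ap_scalar, ap_scalar, ap_one, omul_smul_left, omul_smul_right, smul_smul, Units.mul_inv, one_smul]

/-- Conjugating a triple by the conjugation. -/
theorem Rel.conj {g g1 g2 C : GO N8} (hC : ∀ x, ap C x = oconj x) (r : Rel g g1 g2) :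
    Rel (C * g * C) (C * g2 * C) (C * g1 * C) := fun u v => by
  rw [ap_mul, ap_mul, hC, hC, oconj_omul, r, oconj_omul, ap_mul, ap_mul, ap_mul, ap_mul, hC, hC, hC, hC]

theorem conj_mul_self {C : GO N8} (hC : ∀ x, ap C x = oconj x) : C * C = 1 :=
  ap_ext fun x => by rw [ap_mul, hC, hC, oconj_oconj, ap_one]

theorem span_aniso : Submodule.span F {v : V8 | N8 v ≠ 0} = ⊤ := by
  refine eq_top_iff.2 fun v _ => ?_
  rw [← (Pi.basisFun F I8).sum_repr v]
  refine Submodule.sum_mem _ fun i _ => Submodule.smul_mem _ _ ?_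
  rw [Pi.basisFun_apply]
  let j : Fin 4 → Fin 4 := fun k => if k = 0 then 1 else 0
  let k : Fin 4 := Sum.elim id id i
  let w : V8 := Pi.single (Sum.inl (j k)) 1 + Pi.single (Sum.inr (j k)) 1
  have hj : j k ≠ k := by
    simp only [j]
    split_ifs with h
    · rw [h]; decide
    · exact Ne.symm h
  have h1 : N8 w ≠ 0 := by
    rw [N8_apply]
    generalize hk' : j k = l at hj
    fin_cases l <;> simp [w, hk']
  have h2 : N8 (Pi.single i 1 + w) ≠ 0 := by
    rcases i with i | i <;>
    · rw [N8_apply]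
      have hk : k = i := rfl
      generalize hk' : j k = l at hj
      rw [hk] at hj
      fin_cases l <;> fin_cases i <;> simp [w, hk'] at hj ⊢
  simpa using Submodule.sub_mem _ (Submodule.subset_span (s := {v : V8 | N8 v ≠ 0}) h2)
    (Submodule.subset_span (s := {v : V8 | N8 v ≠ 0}) h1)

/-- Exchanging the first two members of a triple. -/
theorem Rel.swap {g g1 g2 C : GO N8} (hC : ∀ x, ap C x = oconj x) (r : Rel g g1 g2) :
    ∃ c : Fˣ, Rel (ClassicalSimple.scalarGO N8 c * g1) g (C * g2 * C) := by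
  obtain ⟨μ, hμ0, hμ⟩ := exists_mult g2
  refine ⟨Units.mk0 μ hμ0, fun x w => ?_⟩
  let f1 : V8 →ₗ[F] V8 := μ • ((Matrix.toLin' (g1.1 : Matrix I8 I8 F)).comp ((lmul x).comp cmap))
  let f2 : V8 →ₗ[F] V8 := (lmul (ap g x)).comp (cmap.comp (Matrix.toLin' (g2.1 : Matrix I8 I8 F)))
  have hf : f1 = f2 := LinearMap.ext_on span_aniso fun v hv => by
    have e1 : ap g (N8 v • x) = omul (ap g1 (omul x (oconj v))) (ap g2 v) := by
      rw [← r, omul_oconj_cancel_right]
    have e2 := congrArg (fun t => omul t (oconj (ap g2 v))) e1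
    simp only [omul_omul_oconj_cancel, ap_smul, omul_smul_left, hμ, mul_comm μ, ← smul_smul] at e2
    exact (smul_right_injective V8 (show N8 v ≠ 0 from hv) e2).symm
  have e := LinearMap.congr_fun hf (oconj w)
  rw [ap_mul, ap_mul, ap_mul, ap_scalar, hC, hC, Units.val_mk0]
  show μ • ap g1 (omul x w) = omul (ap g x) (oconj (ap g2 (oconj w)))
  have e' : μ • ap g1 (omul x (oconj (oconj w))) = omul (ap g x) (oconj (ap g2 (oconj w))) := e
  rwa [oconj_oconj] at e'

/-- The triple of a left multiplication. -/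
theorem rel_lmul {a : V8} (ha : N8 a ≠ 0) :
    ∃ L P M : GO N8, (∀ x, ap L x = omul a x) ∧ (∀ x, ap P x = omul a (omul x a)) ∧ Rel L P M := by
  obtain ⟨L, hL⟩ := exists_go (lmul a) ha fun x => N8_omul a x
  obtain ⟨P, hP⟩ := exists_go ((lmul a).comp (rmul a)) (mul_ne_zero ha ha) fun x => by
    show N8 (omul a (omul x a)) = _
    rw [N8_omul, N8_omul]; ring
  obtain ⟨M, hM⟩ := exists_go ((N8 a)⁻¹ • lmul (oconj a)) (inv_ne_zero ha) fun x => by
    show N8 ((N8 a)⁻¹ • omul (oconj a) x) = _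
    rw [QuadraticMap.map_smul, N8_omul, N8_oconj, smul_eq_mul]
    field_simp
  refine ⟨L, P, M, hL, hP, fun u v => ?_⟩
  rw [hL, hP, hM]
  show omul a (omul u v) = omul (omul a (omul u a)) ((N8 a)⁻¹ • omul (oconj a) v)
  rw [omul_smul_right, moufang_left, omul_oconj_cancel_left, omul_smul_right, omul_smul_right,
    inv_smul_smul₀ ha]

/-- The triple of a two-sided multiplication. -/
theorem rel_bmul {b : V8} (hb : N8 b ≠ 0) :
    ∃ P L R : GO N8, (∀ x, ap P x = omul b (omul x b)) ∧ Rel P L R := by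
  obtain ⟨P, hP⟩ := exists_go ((lmul b).comp (rmul b)) (mul_ne_zero hb hb) fun x => by
    show N8 (omul b (omul x b)) = _
    rw [N8_omul, N8_omul]; ring
  obtain ⟨L, hL⟩ := exists_go (lmul b) hb fun x => N8_omul b x
  obtain ⟨R, hR⟩ := exists_go (rmul b) hb fun x => by
    show N8 (omul x b) = _
    rw [N8_omul, mul_comm]
  exact ⟨P, L, R, hP, fun u v => by rw [hP, hL, hR]; exact (moufang_middle b u v).symm⟩

/-- A member of a trivial triple is a scalar. -/
theorem Rel.scalar_of_one {g1 g2 : GO N8} (r : Rel 1 g1 g2) :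
    ∃ c : Fˣ, g1 = ClassicalSimple.scalarGO N8 c := by
  set l := ap g1 oone with hl
  set m := ap g2 oone with hm
  have h1 : ∀ v, omul l (ap g2 v) = v := fun v => by rw [hl, ← r, ap_one, oone_omul]
  have h2 : ∀ u, omul (ap g1 u) m = u := fun u => by rw [hm, ← r, ap_one, omul_oone]
  have hn : N8 l * N8 m = 1 := by rw [← N8_omul, hm, h1, N8_oone]
  have hl0 : N8 l ≠ 0 := left_ne_zero_of_mul_eq_one hn
  have hm0 : N8 m ≠ 0 := right_ne_zero_of_mul_eq_one hn
  have hm' : oconj m = N8 m • l := by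
    rw [← omul_omul_oconj_cancel, hm, h1, oone_omul]
  have hg1 : ∀ u, ap g1 u = omul u l := fun u => by
    have e := omul_omul_oconj_cancel m (ap g1 u)
    rw [h2, hm', omul_smul_right] at e
    exact (smul_right_injective V8 hm0 e).symm
  have hass : ∀ u w, omul (omul u l) w = omul u (omul l w) := fun u w => by
    have hg2 : ap g2 (omul l w) = w := by
      refine smul_right_injective V8 hl0 ?_
      show N8 l • ap g2 (omul l w) = N8 l • w
      rw [← oconj_omul_cancel, h1, oconj_omul_cancel]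
    have e := r u (omul l w)
    rw [ap_one, hg1, hg2] at e
    exact e.symm
  have hk := eq_smul_oone_of_assoc hass
  have hk0 : l (.inl 0) ≠ 0 := fun e => hl0 (by rw [hk, e, zero_smul, map_zero])
  exact ⟨Units.mk0 _ hk0, ap_ext fun x => by
    rw [ap_scalar, hg1, Units.val_mk0]
    conv_lhs => rw [hk]
    rw [omul_smul_right, omul_oone]⟩

end Cfsg.Agent.Triality
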